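/-
Lang's theorem over a finite extension for the representatives of the Weyl group.
-/
import Cfsg.Agent.Lib.Chev.SylowTori.Torus
import Mathlib.FieldTheory.IsAlgClosed.Basic

set_option autoImplicit false

namespace CfsgLib.Chev.SemiToral

open Cfsg.Lie Matrix CfsgLib.Chev CfsgLib.Chev.Lang
open CfsgLib.KnownB.ChevField (group_map_le)

universe u

variable {D : ChevalleyDatum} {A : Aux}

/-- the fixed points of a power map with `card F` are the image of `F` -/
theorem fixed_iff {F K : Type*} [Field F] [Fintype F] [Field K] (ι : F →+* K) (x : K) :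
    x ^ Fintype.card F = x ↔ ∃ y, ι y = x := by
  classical
  constructor
  · intro hx
    by_contra hne
    push Not at hne
    let P : Polynomial K := Polynomial.X ^ Fintype.card F - Polynomial.X
    have hP : P ≠ 0 := FiniteField.X_pow_card_sub_X_ne_zero K Fintype.one_lt_card
    have h1 : insert x (Finset.univ.image ι) ⊆ P.roots.toFinset := by
      intro y hy
      rw [Multiset.mem_toFinset, Polynomial.mem_roots hP, Polynomial.IsRoot, Polynomial.eval_sub,
        Polynomial.eval_pow, Polynomial.eval_X, sub_eq_zero]
      rcases Finset.mem_insert.1 hy with rfl | hy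
      · exact hx
      · obtain ⟨t, -, rfl⟩ := Finset.mem_image.1 hy
        rw [← map_pow, FiniteField.pow_card]
    have h2 := (Finset.card_le_card h1).trans
      ((Multiset.toFinset_card_le _).trans (Polynomial.card_roots' P))
    rw [Finset.card_insert_of_notMem (by simpa using hne),
      Finset.card_image_of_injective _ ι.injective, Finset.card_univ,
      FiniteField.X_pow_card_sub_X_natDegree_eq K Fintype.one_lt_card] at h2
    omega
  · rintro ⟨y, rfl⟩
    rw [← map_pow, FiniteField.pow_card]

/-- with a unimodular Cartan matrix the adjoint torus is the torus -/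
theorem exists_dgn_eq_tor {F : Type*} [Field F] (g : Good D A)
    (h1 : (cartanM D A).det.natAbs = 1) (b : Fin D.rank → Fˣ) :
    ∃ c, dgn D A b = tor D A c := by
  have hc : mHom F (cartanM D A) (mHom F (cartanM D A).adjugate b) =
      fun k => b k ^ (cartanM D A).det := by
    rw [mHom_mul, Matrix.adjugate_mul]
    funext k
    rw [mHom_apply, Finset.prod_eq_single k]
    · simp
    · intro i _ hik; simp [Matrix.one_apply_ne hik]
    · simp
  rcases Int.natAbs_eq (cartanM D A).det with e | e <;> rw [h1, Nat.cast_one] at e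
  · refine ⟨mHom F (cartanM D A).adjugate b, ?_⟩
    simp only [e, zpow_one] at hc
    rw [tor_eq_dgn g]
    exact (congrArg _ hc).symm
  · refine ⟨(mHom F (cartanM D A).adjugate b)⁻¹, ?_⟩
    simp only [e, _root_.zpow_neg, zpow_one] at hc
    rw [map_inv, tor_eq_dgn g,
      show (fun i : Fin D.rank => chi D A (mHom F (cartanM D A).adjugate b) (D.simple i)) = b⁻¹ from hc,
      map_inv, inv_inv]

/-- with a unimodular Cartan matrix the adjoint torus lies in the group -/
theorem dgn_mem {F : Type*} [Field F] (g : Good D A) (h1 : (cartanM D A).det.natAbs = 1)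
    (b : Fin D.rank → Fˣ) : dgn D A b ∈ D.group F := by
  obtain ⟨c, hc⟩ := exists_dgn_eq_tor g h1 b
  exact diagonalSubgroup_le_group g (by rw [diagonalSubgroup_eq g, hc]; exact ⟨c, rfl⟩)

/-- elements fixed by a power map come from the finite field -/
theorem descend {F K : Type*} [Field F] [Fintype F] [Field K] (h : Std D A)
    (h1 : (cartanM D A).det.natAbs = 1) (ι : F →+* K) {σ : K →+* K}
    (hσ : ∀ x, σ x = x ^ Fintype.card F) (hbij : Function.Bijective σ) {y : GL D.Idx K}
    (hy : y ∈ D.group K) (hfix : Matrix.GeneralLinearGroup.map σ y = y) :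
    ∃ x : ↥(D.group F), Matrix.GeneralLinearGroup.map ι (x : GL D.Idx F) = y := by
  obtain ⟨u, ⟨x, hx, b, rfl⟩, hu⟩ := Tori.fixed_mem_Gad h
    (σ := RingEquiv.ofBijective σ hbij) (ι := ι)
    (fun z => (iff_of_eq (by show (σ z = z) = _; rw [hσ])).trans (fixed_iff ι z)) hy hfix
  exact ⟨⟨_, mul_mem hx (dgn_mem h.good h1 b)⟩, hu⟩

/-- a degree that works for all representatives at once -/
noncomputable def degree (D : ChevalleyDatum) (F : Type*) [Field F] (N : ℕ) : ℕ :=
  Nat.card (GL D.Idx F) * Nat.totient N

theorem degree_pos {F : Type*} [Field F] [Fintype F] {N : ℕ} (hN : 0 < N) : 0 < degree D F N := by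
  have : Finite (GL D.Idx F) := finite_GL
  exact Nat.mul_pos Nat.card_pos (Nat.totient_pos.2 hN)

/-- Lang's elements over one finite extension -/
theorem lang_finite (h : Std D A) (h1 : (cartanM D A).det.natAbs = 1) {F : Type u} [Field F]
    [Fintype F] {N : ℕ} (hN : 0 < N) (hco : (Fintype.card F).Coprime N) :
    ∃ (L : Type) (_ : Field L) (_ : Fintype L) (ι : F →+* L) (σ : L →+* L),
      (∀ x, σ x = x ^ Fintype.card F) ∧ Function.Bijective σ ∧ N ∣ Fintype.card L - 1 ∧
      ∀ w, Letters D w → ∃ G ∈ D.group L,
        Matrix.GeneralLinearGroup.map σ G = G * nW L h.good w := by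
  classical
  have g := h.good
  have : Finite (GL D.Idx F) := finite_GL
  have hdet : (cartanM D A).det ≠ 0 := fun e => by rw [e] at h1; simp at h1
  obtain ⟨p, hp⟩ := CharP.exists F
  have := Fact.mk (CharP.char_is_prime F p)
  obtain ⟨f, -, hf⟩ := FiniteField.card F p
  set d := degree D F N with hd
  have hd0 : 0 < d := degree_pos hN
  have : NeZero d := ⟨hd0.ne'⟩
  let L := FiniteField.Extension F p d
  have hL : Nat.card L = Fintype.card F ^ d := by
    rw [FiniteField.natCard_extension, Nat.card_eq_fintype_card]
  have : Finite L := Nat.finite_of_card_ne_zero (by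
    rw [hL]; exact pow_ne_zero _ Fintype.card_ne_zero)
  have := Fintype.ofFinite L
  have hLc : Fintype.card L = Fintype.card F ^ d := by rw [← Nat.card_eq_fintype_card, hL]
  let σL : L →+* L := (FiniteField.frobeniusAlgHom F L).toRingHom
  have hσL : ∀ x, σL x = x ^ Fintype.card F := fun _ => rfl
  have hNL : N ∣ Fintype.card L - 1 := by
    rw [hLc, hd, degree, mul_comm, pow_mul]
    have h2 := (Nat.ModEq.pow_totient hco).pow (Nat.card (GL D.Idx F))
    rw [one_pow] at h2
    exact (Nat.modEq_iff_dvd' (Nat.one_le_pow _ _ (pow_pos Fintype.card_pos _))).1 h2.symm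
  refine ⟨L, inferInstance, inferInstance, algebraMap F L, σL, hσL,
    (Finite.injective_iff_bijective).1 σL.injective, hNL, fun w hw => ?_⟩
  obtain ⟨K, _, _, ι, σ, hσ, G, hG, hmG⟩ :=
    lang h hdet (monomialSubgroup_le_group g (nW_mem (F := F) g hw))
  rw [map_nW] at hmG
  have : CharP K p := charP_of_injective_ringHom ι.injective p
  let : Algebra F K := ι.toAlgebra
  let ψ : L →ₐ[F] K := IsAlgClosed.lift
  set n := nW K g w
  have hiter : ∀ k : ℕ, Matrix.GeneralLinearGroup.map (iterateFrobenius K p (f * k)) G = G * n ^ k := by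
    intro k
    induction k with
    | zero =>
      rw [mul_zero, iterateFrobenius_zero, pow_zero, mul_one]
      exact Units.ext (Matrix.ext fun i j => rfl)
    | succ k ih =>
      have hcomp : iterateFrobenius K p (f * (k + 1)) = σ.comp (iterateFrobenius K p (f * k)) :=
        RingHom.ext fun x => by
          rw [RingHom.comp_apply, hσ, iterateFrobenius_def, iterateFrobenius_def, hf, ← pow_mul,
            ← pow_add, mul_add, mul_one]
      have e1 : Matrix.GeneralLinearGroup.map (σ.comp (iterateFrobenius K p (f * k))) G =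
          Matrix.GeneralLinearGroup.map σ (Matrix.GeneralLinearGroup.map (iterateFrobenius K p (f * k)) G) :=
        Units.ext (Matrix.ext fun i j => rfl)
      rw [hcomp, e1, ih, map_mul, hmG, map_pow, map_nW]
      show G * n * n ^ k = _
      rw [mul_assoc, ← pow_succ']
  have hnd : n ^ d = 1 := by
    rw [show n = Matrix.GeneralLinearGroup.map ι (nW F g w) from (map_nW g ι w).symm, ← map_pow, hd,
      degree, pow_mul, pow_card_eq_one', one_pow, map_one]
  have hfix : Matrix.GeneralLinearGroup.map (iterateFrobenius K p (f * d)) G = G := by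
    rw [hiter d, hnd, mul_one]
  obtain ⟨G', hG'⟩ := descend h h1 (ψ : L →+* K) (σ := iterateFrobenius K p (f * d))
    (fun x => by rw [iterateFrobenius_def, hLc, hf, ← pow_mul])
    (bijective_iterateFrobenius K p _) hG hfix
  refine ⟨G'.1, G'.2, ?_⟩
  have hinj : Function.Injective (Matrix.GeneralLinearGroup.map (n := D.Idx) (ψ : L →+* K)) :=
    fun x y e => Units.ext (Matrix.map_injective ψ.toRingHom.injective (congrArg Units.val e))
  apply hinj
  rw [map_mul, map_nW, hG', ← hmG, ← hG']
  refine Units.ext (Matrix.ext fun i j => ?_)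
  show ψ (σL _) = σ (ψ _)
  rw [hσL, hσ, map_pow]

end CfsgLib.Chev.SemiToral
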