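/-
The kernel of an integral matrix modulo a multiple of its determinant.
-/
import Mathlib.LinearAlgebra.FreeModule.Finite.CardQuotient
import Mathlib.LinearAlgebra.Matrix.Adjugate
import Mathlib.LinearAlgebra.Matrix.ToLin
import Mathlib.LinearAlgebra.Determinant
import Mathlib.Data.ZMod.Basic

set_option autoImplicit false

namespace CfsgLib.Chev.SemiToral

open Matrix

variable {l : ℕ} {N : ℕ} [NeZero N]

/-- the kernel modulo a multiple of the determinant has at least `|det|` elements -/
theorem natAbs_det_le_card (B : Matrix (Fin l) (Fin l) ℤ) (h0 : B.det ≠ 0) (hN : B.det.natAbs ∣ N) :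
    B.det.natAbs ≤
      Nat.card {v : Fin l → ZMod N // B.map (Int.cast : ℤ → ZMod N) *ᵥ v = 0} := by
  classical
  obtain ⟨k, hk⟩ := hN
  have hk0 : (k : ℤ) ≠ 0 := fun e => NeZero.ne N (by rw [hk, Int.ofNat_eq_zero.1 e, mul_zero])
  have hinj : Function.Injective (Matrix.toLin' B) := by
    intro x y e
    rw [Matrix.toLin'_apply, Matrix.toLin'_apply] at e
    have := congrArg (B.adjugate *ᵥ ·) e
    simp only [Matrix.mulVec_mulVec, Matrix.adjugate_mul, Matrix.smul_mulVec,
      Matrix.one_mulVec] at this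
    exact smul_right_injective _ h0 this
  let V := {v : Fin l → ZMod N // B.map (Int.cast : ℤ → ZMod N) *ᵥ v = 0}
  have hf : ∀ y : Fin l → ℤ,
      B.map (Int.cast : ℤ → ZMod N) *ᵥ (fun i => (((k : ℤ) * (B.adjugate *ᵥ y) i : ℤ) : ZMod N)) = 0 := by
    intro y
    have e : (fun i => (((k : ℤ) * (B.adjugate *ᵥ y) i : ℤ) : ZMod N)) =
        (Int.castRingHom (ZMod N)) ∘ ((k : ℤ) • (B.adjugate *ᵥ y)) := funext fun i => rfl
    funext i
    rw [e, show B.map (Int.cast : ℤ → ZMod N) = B.map (Int.castRingHom (ZMod N)) from rfl,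
      ← RingHom.map_mulVec, Matrix.mulVec_smul, Matrix.mulVec_mulVec, Matrix.mul_adjugate,
      Matrix.smul_mulVec, Matrix.one_mulVec]
    show ((((k : ℤ) * (B.det * y i) : ℤ)) : ZMod N) = 0
    rw [ZMod.intCast_zmod_eq_zero_iff_dvd, hk, Nat.cast_mul]
    rcases Int.natAbs_eq B.det with e | e
    · exact ⟨y i, by conv_lhs => rw [e]
                     ring⟩
    · exact ⟨-y i, by conv_lhs => rw [e]
                      ring⟩
  set I := LinearMap.range (Matrix.toLin' B)
  have hw : ∀ y z : Fin l → ℤ, (fun i => (((k : ℤ) * (B.adjugate *ᵥ y) i : ℤ) : ZMod N)) =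
      (fun i => (((k : ℤ) * (B.adjugate *ᵥ z) i : ℤ) : ZMod N)) ↔ y - z ∈ I := by
    intro y z
    constructor
    · intro e
      have hd : ∀ i, B.det ∣ (B.adjugate *ᵥ (y - z)) i := fun i => by
        have h1 := congrFun e i
        rw [ZMod.intCast_eq_intCast_iff_dvd_sub, hk, Nat.cast_mul, ← mul_sub, mul_comm _ (k : ℤ)] at h1
        have h2 := (mul_dvd_mul_iff_left hk0).1 h1
        rw [Int.natAbs_dvd] at h2
        rw [Matrix.mulVec_sub, Pi.sub_apply, ← neg_sub]
        exact dvd_neg.2 h2
      choose w hw using hd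
      refine ⟨w, ?_⟩
      rw [Matrix.toLin'_apply]
      have h3 : B *ᵥ (B.adjugate *ᵥ (y - z)) = B.det • (B *ᵥ w) := by
        rw [← Matrix.mulVec_smul]; congr 1; funext i; exact hw i
      rw [Matrix.mulVec_mulVec, Matrix.mul_adjugate, Matrix.smul_mulVec, Matrix.one_mulVec] at h3
      exact (smul_right_injective _ h0 h3).symm
    · rintro ⟨w, hw'⟩
      funext i
      rw [Matrix.toLin'_apply] at hw'
      have h1 : (B.adjugate *ᵥ y) i - (B.adjugate *ᵥ z) i = B.det * w i := by
        rw [← Pi.sub_apply, ← Matrix.mulVec_sub, ← hw', Matrix.mulVec_mulVec, Matrix.adjugate_mul,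
          Matrix.smul_mulVec, Matrix.one_mulVec]
        rfl
      rw [ZMod.intCast_eq_intCast_iff_dvd_sub, hk, Nat.cast_mul, ← mul_sub, mul_comm _ (k : ℤ)]
      refine mul_dvd_mul_left _ ?_
      rw [Int.natAbs_dvd, ← neg_sub]
      exact dvd_neg.2 ⟨w i, h1⟩
  let f : ((Fin l → ℤ) ⧸ I) → V :=
    Quotient.lift (fun y => (⟨_, hf y⟩ : V)) fun y z e =>
      Subtype.ext ((hw y z).2 ((Submodule.quotientRel_def I).1 e))
  have hfi : Function.Injective f := fun a b => by
    induction a using Submodule.Quotient.induction_on with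
    | H y =>
      induction b using Submodule.Quotient.induction_on with
      | H z => exact fun e => (Submodule.Quotient.eq I).2 ((hw y z).1 (congrArg Subtype.val e))
  refine le_of_eq_of_le ?_ (Nat.card_le_card_of_injective f hfi)
  rw [← Submodule.natAbs_det_equiv I (LinearEquiv.ofInjective _ hinj), ← LinearMap.det_toLin']
  congr 1

end CfsgLib.Chev.SemiToral
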