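/-
Elements of order prime to the characteristic lie in twisted tori: the classes that meet the tori
are as numerous as the semisimple classes.
-/
import Cfsg.Agent.Lib.Chev.SemiToral.Frame
import Cfsg.Agent.Lib.Chev.SemiToral.Lattice
import Cfsg.Agent.Lib.Chev.Weights.Count

set_option autoImplicit false

namespace CfsgLib.Chev.SemiToral

open Cfsg.Lie Matrix CfsgLib.Chev CfsgLib.Chev.Lang CfsgLib.Chev.SylowTori
open CfsgLib.KnownB.ChevField (group_map_le)

universe u

variable {D : ChevalleyDatum} {A : Aux}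

/-- a word for an element of the Weyl group -/
noncomputable def wd (g : Good D A) (w : Weyl g) : List ℕ := (wS_gen g w).choose.map Fin.val

theorem wd_letters (g : Good D A) (w : Weyl g) : Letters D (wd g w) := letters_map _

theorem wd_apply (g : Good D A) (w : Weyl g) (r : Fin D.nroots) :
    (w.1 r).val = wf A (wd g w) r := by
  conv_lhs => rw [← (wS_gen g w).choose_spec, wS_prod_apply]
  rfl

theorem exists_wd (g : Good D A) {l : List ℕ} (hl : Letters D l) :
    ∃ w : Weyl g, SameOn D (wf A (wd g w)) (wf A l) := by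
  obtain ⟨l', rfl⟩ := exists_fin_word hl
  refine ⟨(l'.map (wS g)).prod, fun r hr => ?_⟩
  rw [← wd_apply g _ ⟨r, hr⟩, wS_prod_apply]

/-- the action on parameter vectors -/
noncomputable def act {R : Type*} [CommRing R] (g : Good D A) (w : Weyl g) :
    Module.End R (Fin D.rank → R) := Phi R D A (wd g w)

theorem Phi_congr {R : Type*} [CommRing R] (g : Good D A) {l l' : List ℕ}
    (h : SameOn D (wf A l) (wf A l')) : Phi R D A l = Phi R D A l' := by
  refine LinearMap.ext fun v => funext fun i => ?_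
  simp only [Phi, LinearMap.pi_apply]
  rw [h _ (g.simple_lt i i.isLt)]

theorem act_mul {R : Type*} [CommRing R] (g : Good D A) (u w : Weyl g) (v : Fin D.rank → R) :
    act g (u * w) v = act g w (act g u v) := by
  funext i
  simp only [act, Phi, LinearMap.pi_apply]
  have hs := g.simple_lt i i.isLt
  rw [← wd_apply g _ ⟨_, hs⟩, Subgroup.coe_mul, Equiv.Perm.mul_apply, wd_apply g u, wd_apply g w]
  exact lin_wf g (wd_letters g u) (wf_lt g (wd_letters g w) hs) v

theorem act_one {R : Type*} [CommRing R] (g : Good D A) (v : Fin D.rank → R) :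
    act g (1 : Weyl g) v = v := by
  funext i
  simp only [act, Phi, LinearMap.pi_apply]
  rw [← wd_apply g _ ⟨_, g.simple_lt i i.isLt⟩]
  exact lin_simple g i v

/-- the matrix of an element of the Weyl group -/
noncomputable def Mw (g : Good D A) (w : Weyl g) : Matrix (Fin D.rank) (Fin D.rank) ℤ :=
  Matrix.of fun i j => A.a (wf A (wd g w) (D.simple i)) j

/-- `q - w` -/
noncomputable def Bw (g : Good D A) (q : ℕ) (w : Weyl g) : Matrix (Fin D.rank) (Fin D.rank) ℤ :=
  (q : ℤ) • 1 - Mw g w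

theorem Bw_kernel (g : Good D A) {N : ℕ} (q : ℕ) (w : Weyl g) (v : Fin D.rank → ZMod N) :
    (Bw g q w).map (Int.cast : ℤ → ZMod N) *ᵥ v = 0 ↔
      v ∈ eigen (ZMod N) D A (wd g w) (q : ZMod N) := by
  have e : (Bw g q w).map (Int.cast : ℤ → ZMod N) *ᵥ v =
      (q : ZMod N) • v - Phi (ZMod N) D A (wd g w) v := by
    funext i
    simp only [Matrix.mulVec, dotProduct, Matrix.map_apply, Bw, Mw, Matrix.sub_apply, Matrix.smul_apply,
      Matrix.of_apply, smul_eq_mul, Int.cast_sub, Int.cast_mul, Int.cast_natCast, sub_mul,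
      Finset.sum_sub_distrib, Pi.sub_apply, Pi.smul_apply, Phi, LinearMap.pi_apply, lin_apply]
    congr 1
    rw [Finset.sum_eq_single i]
    · simp
    · intro j _ hj; simp [Matrix.one_apply_ne (Ne.symm hj)]
    · simp
  rw [e, mem_eigen, sub_eq_zero, eq_comm]

variable {F : Type u} [Field F] [Fintype F]

/-- the toral parametrisation over a finite extension -/
structure Par (h : Std D A) (F : Type u) [Field F] [Fintype F] (N : ℕ) where
  L : Type
  [fld : Field L]
  [fin : Fintype L]
  ι : F →+* L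
  σ : L →+* L
  hσ : ∀ x, σ x = x ^ Fintype.card F
  hbij : Function.Bijective σ
  dvd : N ∣ Fintype.card L - 1
  ζ : Lˣ
  prim : IsPrimitiveRoot ζ N
  G : Weyl h.good → GL D.Idx L
  hG : ∀ w, G w ∈ D.group L
  twist : ∀ w, Matrix.GeneralLinearGroup.map σ (G w) = G w * nW L h.good (wd h.good w)

attribute [instance] Par.fld Par.fin

theorem exists_par (h : Std D A) (h1 : (cartanM D A).det.natAbs = 1) {N : ℕ} (hN : 0 < N)
    (hco : (Fintype.card F).Coprime N) : Nonempty (Par h F N) := by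
  obtain ⟨L, _, _, ι, σ, hσ, hbij, hdvd, hlang⟩ := lang_finite h h1 (F := F) hN hco
  obtain ⟨γ, hγ⟩ := IsCyclic.exists_ofOrder_eq_natCard (α := Lˣ)
  rw [Nat.card_units, Nat.card_eq_fintype_card] at hγ
  obtain ⟨k, hk⟩ := hdvd
  have hpos : 0 < Fintype.card L - 1 := by
    have := Fintype.one_lt_card (α := L)
    omega
  have hζ : IsPrimitiveRoot (γ ^ k) N :=
    (hγ ▸ IsPrimitiveRoot.orderOf γ).pow hpos (by rw [hk, mul_comm])
  choose G hG hG' using fun w : Weyl h.good => hlang (wd h.good w) (wd_letters h.good w)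
  exact ⟨⟨L, ι, σ, hσ, hbij, ⟨k, hk⟩, γ ^ k, hζ, G, hG, hG'⟩⟩

variable {h : Std D A} {N : ℕ} [NeZero N]

/-- the torus element of a vector -/
noncomputable def Par.tv (P : Par h F N) (v : Fin D.rank → ZMod N) : GL D.Idx P.L :=
  dgn D A fun i => zp P.ζ (v i)

theorem Par.orderOf_tv (P : Par h F N) (v : Fin D.rank → ZMod N) :
    orderOf (P.tv v) = addOrderOf v := by
  let E : Multiplicative (Fin D.rank → ZMod N) →* (Fin D.rank → P.Lˣ) := MonoidHom.mk'
    (fun x i => zp P.ζ ((Multiplicative.toAdd x) i)) fun x y => funext fun i => zp_add P.prim _ _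
  have hE : Function.Injective E := fun x y e =>
    Multiplicative.toAdd.injective (funext fun i => zp_inj P.prim (congrFun e i))
  rw [Par.tv, orderOf_injective _ (dgn_inj h.good), ← orderOf_ofAdd_eq_addOrderOf,
    ← orderOf_injective E hE]
  rfl

theorem Par.rational (P : Par h F N) (h1 : (cartanM D A).det.natAbs = 1) (w : Weyl h.good)
    {v : Fin D.rank → ZMod N} (hv : v ∈ eigen (ZMod N) D A (wd h.good w) (Fintype.card F : ZMod N)) :
    ∃ x : ↥(D.group F),
      Matrix.GeneralLinearGroup.map P.ι (x : GL D.Idx F) = P.G w * P.tv v * (P.G w)⁻¹ := by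
  have g := h.good
  refine descend h h1 P.ι P.hσ P.hbij
    (mul_mem (mul_mem (P.hG w) (dgn_mem g h1 _)) (inv_mem (P.hG w))) ?_
  have hw := wd_letters g w
  set l := wd g w
  set a : Fin D.rank → P.Lˣ := fun i => zp P.ζ (v i) with ha
  set a' : Fin D.rank → P.Lˣ := fun i => Units.map (P.σ : P.L →* P.L) (a i)
  obtain ⟨c, hc⟩ := exists_dgn_eq_tor g h1 a'
  obtain ⟨c', hc'⟩ := monomial_conj_tor g (nW_mem (F := P.L) g hw) c
  have hb : nW P.L g l * dgn D A a' * (nW P.L g l)⁻¹ =
      dgn D A fun i => chi D A c' (D.simple i) := by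
    rw [hc, hc', tor_eq_dgn g]
  show Matrix.GeneralLinearGroup.map P.σ (P.G w * dgn D A a * (P.G w)⁻¹) = P.G w * dgn D A a * (P.G w)⁻¹
  rw [map_mul, map_mul, map_inv, P.twist w, map_dgn,
    show P.G w * nW P.L g l * dgn D A a' * (P.G w * nW P.L g l)⁻¹ =
      P.G w * (nW P.L g l * dgn D A a' * (nW P.L g l)⁻¹) * (P.G w)⁻¹ by group, hb]
  congr 3
  funext i
  have hs := g.simple_lt i i.isLt
  have hs' := wf_lt g hw.reverse hs
  have h2 := Tori.conj_dgn_wt h (nW_acts g hw) hb hs'
  rw [wf_rev_right g hw hs, wt_simple g _ i.isLt, Lang.ext, dif_pos i.isLt] at h2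
  rw [h2, show wt D A (Lang.ext a') (wf A l.reverse (D.simple i)) =
      wt D A (Lang.ext a) (wf A l.reverse (D.simple i)) ^ Fintype.card F by
    rw [wt, wt, ← Finset.prod_pow]
    refine Finset.prod_congr rfl fun j hj => ?_
    rw [Lang.ext, Lang.ext, dif_pos (Finset.mem_range.1 hj), dif_pos (Finset.mem_range.1 hj),
      ← map_zpow]
    exact Units.ext (P.hσ _), wt_zp P.prim, ← zp_nat P.prim]
  show zp P.ζ _ = zp P.ζ (v i)
  congr 1
  have h3 := lin_wf g hw hs' v
  rw [wf_rev_right g hw hs, mem_eigen.1 hv, map_smul, smul_eq_mul, lin_simple g] at h3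
  exact h3.symm

omit [NeZero N] in
/-- `q` is a unit modulo `N` -/
theorem q_unit (hco : (Fintype.card F).Coprime N) : IsUnit (Fintype.card F : ZMod N) :=
  (ZMod.isUnit_iff_coprime _ _).2 hco

/-- **elements of order prime to `p` are toral** -/
theorem Par.toral (P : Par h F N) (h1 : (cartanM D A).det.natAbs = 1) (hPara : Para D A) (p : ℕ)
    [Fact p.Prime] [CharP F p] (hc : Nat.card (D.diagonalSubgroup F) = (Fintype.card F - 1) ^ D.rank)
    (hco : (Fintype.card F).Coprime N)
    (hne : ∀ w : Weyl h.good, (Bw h.good (Fintype.card F) w).det ≠ 0)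
    (hdiv : ∀ w : Weyl h.good, (Bw h.good (Fintype.card F) w).det.natAbs ∣ N)
    (hsum : ∑ w : Weyl h.good, (Bw h.good (Fintype.card F) w).det =
      (Nat.card (Weyl h.good) : ℤ) * (Fintype.card F : ℤ) ^ D.rank)
    (x : ↥(D.group F)) (hx : ¬ p ∣ orderOf x) :
    ∃ (w : Weyl h.good) (v : Fin D.rank → ZMod N) (G : GL D.Idx P.L), G ∈ D.group P.L ∧
      v ∈ eigen (ZMod N) D A (wd h.good w) (Fintype.card F : ZMod N) ∧
      Matrix.GeneralLinearGroup.map P.ι (x : GL D.Idx F) = G * P.tv v * G⁻¹ ∧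
      orderOf x = addOrderOf v := by
  classical
  have g := h.good
  have : Finite (GL D.Idx F) := finite_GL
  set q := Fintype.card F
  let S : Type := Σ w : Weyl h.good, ↥(eigen (ZMod N) D A (wd h.good w) (q : ZMod N))
  choose y hy using fun s : S => P.rational h1 s.1 s.2.2
  have hinjι : Function.Injective (Matrix.GeneralLinearGroup.map (n := D.Idx) P.ι) :=
    fun a b e => Units.ext (Matrix.map_injective P.ι.injective (congrArg Units.val e))
  have hord : ∀ s : S, orderOf (y s) = addOrderOf s.2.1 := fun s => by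
    rw [← Subgroup.orderOf_coe, ← orderOf_injective _ hinjι, hy s, ← P.orderOf_tv]
    exact (MulAut.conj (P.G s.1)).orderOf_eq _
  have hp := (Fact.out : p.Prime)
  have hreg : ∀ s : S, ¬ p ∣ orderOf (y s) := fun s hd => by
    have h2 : addOrderOf s.2.1 ∣ N := by
      refine addOrderOf_dvd_of_nsmul_eq_zero ?_
      rw [← Nat.cast_smul_eq_nsmul (ZMod N), ZMod.natCast_self, zero_smul]
    obtain ⟨m, -, hm⟩ := FiniteField.card F p
    rw [hord] at hd
    have h3 : p ∣ q := by rw [show q = p ^ (m : ℕ) from hm]; exact dvd_pow_self p m.pos.ne'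
    exact hp.not_dvd_one (hco ▸ Nat.dvd_gcd h3 (hd.trans h2))
  let Cl := {C : ConjClasses ↥(D.group F) // ∃ z, ConjClasses.mk z = C ∧ ¬ p ∣ orderOf z}
  have hfinC : Finite Cl := inferInstance
  let f : S → Cl := fun s => ⟨ConjClasses.mk (y s), _, rfl, hreg s⟩
  -- equal classes give vectors in one orbit
  have horb : ∀ s t : S, f s = f t → ∃ u : Weyl h.good, act g u s.2.1 = t.2.1 := by
    intro s t e
    obtain ⟨z, hz⟩ := isConj_iff.1 (ConjClasses.mk_eq_mk_iff_isConj.1 (congrArg Subtype.val e))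
    have h2 := congrArg (fun a : ↥(D.group F) => Matrix.GeneralLinearGroup.map P.ι (a : GL D.Idx F)) hz
    simp only [Subgroup.coe_mul, Subgroup.coe_inv, map_mul, map_inv, hy] at h2
    set Z := Matrix.GeneralLinearGroup.map P.ι (z : GL D.Idx F)
    have hZ : Z ∈ D.group P.L := group_map_le g P.ι ⟨_, z.2, rfl⟩
    obtain ⟨u, hu, hfus⟩ := fusion h (hh := (P.G t.1)⁻¹ * Z * P.G s.1)
      (mul_mem (mul_mem (inv_mem (P.hG _)) hZ) (P.hG _))
    have hd : ∀ v, P.tv v ∈ D.diagonalSubgroup P.L := fun v => by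
      obtain ⟨c, hc⟩ := exists_dgn_eq_tor g h1 fun i => zp P.ζ (v i)
      rw [Par.tv, hc, diagonalSubgroup_eq g]
      exact ⟨c, rfl⟩
    have h3 := hfus _ _ (hd s.2.1) (hd t.2.1) (by
      calc (P.G t.1)⁻¹ * Z * P.G s.1 * P.tv s.2.1
          = (P.G t.1)⁻¹ * (Z * (P.G s.1 * P.tv s.2.1 * (P.G s.1)⁻¹) * Z⁻¹) * Z * P.G s.1 := by group
        _ = (P.G t.1)⁻¹ * (P.G t.1 * P.tv t.2.1 * (P.G t.1)⁻¹) * Z * P.G s.1 := by rw [h2]
        _ = _ := by simp only [Par.tv]; group)
    obtain ⟨w, hw⟩ := exists_wd g hu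
    have h4 : act g w t.2.1 = s.2.1 := by
      funext i
      have hs := g.simple_lt i i.isLt
      simp only [act, Phi, LinearMap.pi_apply, hw _ hs]
      have h5 := Tori.conj_dgn_wt h (nW_acts g hu) h3 hs
      rw [wt_zp P.prim, wt_zp P.prim] at h5
      exact (zp_inj P.prim h5).trans (lin_simple g i _)
    exact ⟨w⁻¹, by rw [← h4, ← act_mul, mul_inv_cancel, act_one]⟩
  -- a fibre injects into the Weyl group
  have hfib : ∀ C : Cl, Nat.card {s : S // f s = C} ≤ Nat.card (Weyl h.good) := by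
    intro C
    rcases isEmpty_or_nonempty {s : S // f s = C} with he | ⟨⟨s0, hs0⟩⟩
    · simp
    let U : (Fin D.rank → ZMod N) → Weyl h.good := fun v =>
      if hv : ∃ u : Weyl h.good, act g u s0.2.1 = v then hv.choose else 1
    have hU : ∀ s : {s : S // f s = C}, act g (U s.1.2.1) s0.2.1 = s.1.2.1 := fun s => by
      have hv := horb s0 s.1 (hs0.trans s.2.symm)
      simp only [U, dif_pos hv]
      exact hv.choose_spec
    refine Nat.card_le_card_of_injective (fun s : {s : S // f s = C} => U s.1.2.1 * s.1.1) ?_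
    rintro ⟨⟨w, v, hv⟩, hs⟩ ⟨⟨w', v', hv'⟩, hs'⟩ e
    have e' : act g (U v * w) s0.2.1 = act g (U v' * w') s0.2.1 := by rw [show U v * w = U v' * w' from e]
    rw [act_mul, act_mul, hU ⟨⟨w, v, hv⟩, hs⟩, hU ⟨⟨w', v', hv'⟩, hs'⟩] at e'
    have hqq : (q : ZMod N) • v = (q : ZMod N) • v' := (mem_eigen.1 hv).symm.trans (e'.trans (mem_eigen.1 hv'))
    obtain rfl : v = v' := (q_unit hco).smul_left_cancel.1 hqq
    obtain rfl : w = w' := mul_left_cancel (show U v * w = U v * w' from e)
    rfl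
  -- counting
  have hsurj : Function.Surjective f := by
    by_contra hns
    simp only [Function.Surjective, not_forall, not_exists] at hns
    obtain ⟨C0, hC0⟩ := hns
    have := Fintype.ofFinite Cl
    have hlow : Nat.card (Weyl h.good) * q ^ D.rank ≤ Nat.card S := by
      rw [Nat.card_sigma]
      have h2 : ∀ w : Weyl h.good, (Bw g q w).det ≤
          (Nat.card ↥(eigen (ZMod N) D A (wd h.good w) (q : ZMod N)) : ℤ) := fun w => by
        refine (Int.le_natAbs).trans (Int.ofNat_le.2 ?_)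
        exact (natAbs_det_le_card (N := N) _ (hne w) (hdiv w)).trans_eq
          (Nat.card_congr (Equiv.subtypeEquivRight fun v => Bw_kernel g q w v))
      have h3 := Finset.sum_le_sum (s := Finset.univ) fun w _ => h2 w
      rw [hsum, ← Nat.cast_sum] at h3
      exact_mod_cast h3
    have hup : Nat.card S < Nat.card (Weyl h.good) * q ^ D.rank := by
      have hWpos : 0 < Nat.card (Weyl h.good) := Nat.card_pos
      rw [← Weights.card_regular_classes hPara p hc, Nat.card_congr (Equiv.sigmaFiberEquiv f).symm,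
        Nat.card_sigma, mul_comm]
      refine lt_of_lt_of_le (Finset.sum_lt_sum (fun C _ => hfib C) ⟨C0, Finset.mem_univ _, ?_⟩) ?_
      · have : IsEmpty {s : S // f s = C0} := ⟨fun s => hC0 s.1 s.2⟩
        rw [Nat.card_of_isEmpty]
        exact hWpos
      · rw [Finset.sum_const, smul_eq_mul, Finset.card_univ, ← Nat.card_eq_fintype_card]
    exact absurd hlow (not_le.2 hup)
  obtain ⟨s, hs⟩ := hsurj ⟨ConjClasses.mk x, x, rfl, hx⟩
  obtain ⟨z, hz⟩ := isConj_iff.1 (ConjClasses.mk_eq_mk_iff_isConj.1 (congrArg Subtype.val hs))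
  refine ⟨s.1, s.2.1, Matrix.GeneralLinearGroup.map P.ι (z : GL D.Idx F) * P.G s.1,
    mul_mem (group_map_le g P.ι ⟨_, z.2, rfl⟩) (P.hG _), s.2.2, ?_, ?_⟩
  · rw [← hz]
    simp only [Subgroup.coe_mul, Subgroup.coe_inv, map_mul, map_inv, hy]
    group
  · rw [← hord, ← hz]
    exact (MulAut.conj z).orderOf_eq _

end CfsgLib.Chev.SemiToral
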